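import Cfsg.Agent.Lib.Lead.SLMult.StHom

/-!
# The central extensions of `SL_3(K)` split, `|K| ≠ 2, 4` (lead)
-/

set_option autoImplicit false

namespace Cfsg.Agent.SLMult

open Matrix Cfsg.Agent.Lib.Helper7.StSL
open scoped commutatorElement

variable {K : Type*} [Field K] {Y : Type*} [Group Y]

/-- the torus element `diag(c, c, c⁻²)`, with `c⁻²` at the place `l` -/
noncomputable def tor3 {i j l : Fin 3} (hil : i ≠ l) (hjl : j ≠ l) (c : K) (hc : c ≠ 0) :
    SpecialLinearGroup (Fin 3) K :=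
  SpecialLinearGroup.diag2n hil c hc * SpecialLinearGroup.diag2n hjl c hc

theorem tor3_mem {i j l : Fin 3} (hil : i ≠ l) (hjl : j ≠ l) (c : K) (hc : c ≠ 0) :
    tor3 hil hjl c hc ∈ diagT K 3 :=
  Subgroup.mul_mem _ (diag2n_mem hil c hc) (diag2n_mem hjl c hc)

theorem tor3_chi {i j l : Fin 3} (hil : i ≠ l) (hjl : j ≠ l) (c : K) (hc : c ≠ 0) (k m : Fin 3) :
    chiS (tor3 hil hjl c hc) k m
      = (if k = i then c else if k = l then c⁻¹ else 1) *
          (if m = i then c else if m = l then c⁻¹ else 1)⁻¹ *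
        ((if k = j then c else if k = l then c⁻¹ else 1) *
          (if m = j then c else if m = l then c⁻¹ else 1)⁻¹) := by
  unfold tor3
  rw [chiS_mul (diag2n_mem hil c hc) (diag2n_mem hjl c hc), chiS_diag2n, chiS_diag2n]

theorem tor3_chi_ij {i j l : Fin 3} (hij : i ≠ j) (hil : i ≠ l) (hjl : j ≠ l) (c : K)
    (hc : c ≠ 0) : chiS (tor3 hil hjl c hc) i j = 1 := by
  rw [tor3_chi]
  simp only [if_true, if_neg hij, if_neg hij.symm, if_neg hil, if_neg hjl]
  field_simp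

theorem tor3_chi_il {i j l : Fin 3} (hij : i ≠ j) (hil : i ≠ l) (hjl : j ≠ l) (c : K)
    (hc : c ≠ 0) : chiS (tor3 hil hjl c hc) i l = c ^ 3 := by
  rw [tor3_chi]
  simp only [if_true, if_neg hij, if_neg hil, if_neg hil.symm, if_neg hjl.symm]
  field_simp

theorem tor3_chi_jl {i j l : Fin 3} (hij : i ≠ j) (hil : i ≠ l) (hjl : j ≠ l) (c : K)
    (hc : c ≠ 0) : chiS (tor3 hil hjl c hc) j l = c ^ 3 := by
  rw [tor3_chi]
  simp only [if_true, if_neg hij.symm, if_neg hil.symm, if_neg hjl, if_neg hjl.symm]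
  field_simp

theorem tor3_chi_li {i j l : Fin 3} (hij : i ≠ j) (hil : i ≠ l) (hjl : j ≠ l) (c : K)
    (hc : c ≠ 0) : chiS (tor3 hil hjl c hc) l i = (c ^ 3)⁻¹ := by
  rw [tor3_chi]
  simp only [if_true, if_neg hij, if_neg hil, if_neg hil.symm, if_neg hjl.symm]
  field_simp

theorem tor3_chi_lj {i j l : Fin 3} (hij : i ≠ j) (hil : i ≠ l) (hjl : j ≠ l) (c : K)
    (hc : c ≠ 0) : chiS (tor3 hil hjl c hc) l j = (c ^ 3)⁻¹ := by
  rw [tor3_chi]
  simp only [if_true, if_neg hij.symm, if_neg hil.symm, if_neg hjl, if_neg hjl.symm]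
  field_simp

theorem fin3_third : ∀ i j : Fin 3, ∃ m : Fin 3, i ≠ m ∧ j ≠ m := by decide

theorem fin3_not_four' : ∀ i j k l : Fin 3,
    ¬ (i ≠ j ∧ k ≠ l ∧ i ≠ l ∧ j ≠ k ∧ i ≠ k ∧ j ≠ l) := by
  decide

theorem fin3_not_four (i j k l : Fin 3) (h1 : i ≠ j) (h2 : k ≠ l) (h3 : i ≠ l) (h4 : j ≠ k)
    (h5 : i ≠ k) (h6 : j ≠ l) : False :=
  fin3_not_four' i j k l ⟨h1, h2, h3, h4, h5, h6⟩

/-- every central extension of `SL_3(K)` splits, if `K` is finite and `c³ ≠ 1` for some `c ≠ 0` -/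
theorem sl3_splits [Finite K] (hK : ∃ c : K, c ≠ 0 ∧ c ^ 3 ≠ 1)
    (ψ : Y →* SpecialLinearGroup (Fin 3) K) (hs : Function.Surjective ψ)
    (hc : ∀ z : Y, ψ z = 1 → ∀ y : Y, z * y = y * z) :
    ∃ s : SpecialLinearGroup (Fin 3) K →* Y,
      ψ.comp s = MonoidHom.id (SpecialLinearGroup (Fin 3) K) := by
  obtain ⟨c, hc0, hc3⟩ := hK
  have hc3' : (c ^ 3)⁻¹ ≠ 1 := by
    intro e
    apply hc3
    rw [← inv_inv (c ^ 3), e, inv_one]
  have hc1 : c ≠ 1 := by
    rintro rfl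
    exact hc3 (one_pow 3)
  let S := slTorData K 3
  have h1 : ∀ i j, i ≠ j → ∃ a ∈ S.T, S.chi a i j ≠ 1 := by
    intro i j hij
    obtain ⟨m, him, hjm⟩ := fin3_third i j
    refine ⟨SpecialLinearGroup.diag2n him c hc0, diag2n_mem him c hc0, ?_⟩
    show chiS _ i j ≠ 1
    rw [chiS_diag2n]
    simp only [if_true, if_neg hij.symm, if_neg hjm, inv_one, mul_one]
    exact hc1
  have hLC : ∀ i j k l, i ≠ j → k ≠ l → i ≠ l → j ≠ k → LC S ψ i j k l := by
    intro i j k l hij hkl hil hjk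
    by_cases hik : i = k
    · subst hik
      by_cases hjl : j = l
      · subst hjl
        obtain ⟨m, him, hjm⟩ := fin3_third i j
        exact lc_of_dec hs hc hij him hjm.symm hij him hij.symm hij hjm
      · -- the same row
        apply lc_of_torus hs hc hij hkl hil hjk (tor3 hil hjl c hc0) (tor3_mem hil hjl c hc0)
        · exact tor3_chi_ij hij hil hjl c hc0
        · show chiS _ i l ≠ 1
          rw [tor3_chi_il hij hil hjl c hc0]
          exact hc3
    · by_cases hjl : j = l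
      · subst hjl
        -- the same column
        apply lc_of_torus hs hc hij hkl hil hjk (tor3 hik hjk c hc0) (tor3_mem hik hjk c hc0)
        · exact tor3_chi_ij hij hik hjk c hc0
        · show chiS _ k j ≠ 1
          rw [tor3_chi_lj hij hik hjk c hc0]
          exact hc3'
      · exact (fin3_not_four i j k l hij hkl hil hjk hik hjl).elim
  have h3 : ∀ i j l, i ≠ j → j ≠ l → i ≠ l → ∃ a ∈ S.T, S.chi a i j = 1 ∧ S.chi a j l ≠ 1 := by
    intro i j l hij hjl hil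
    refine ⟨tor3 hil hjl c hc0, tor3_mem hil hjl c hc0, tor3_chi_ij hij hil hjl c hc0, ?_⟩
    show chiS _ j l ≠ 1
    rw [tor3_chi_jl hij hil hjl c hc0]
    exact hc3
  obtain ⟨y, e0, e1, e2, e3⟩ := exists_lifts hs hc h1 hLC h3
  exact splits_of_lifts (le_refl 3) ψ y e0 e1 e2 e3

end Cfsg.Agent.SLMult
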