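import Cfsg.Agent.Lib.Helper5.UC.Abstract

/-!
# Lifts of two commuting additive families which are swapped by a conjugation commute, over the
field with three elements (lead)
-/

set_option autoImplicit false

namespace Cfsg.Agent.SLMult

open scoped commutatorElement IsMulCommutative
open Cfsg.Agent.Lib.Helper5.UC

variable {E M : Type*} [Group E] [Group M] (Ψ : E →* M)
  (hc : ∀ z : E, Ψ z = 1 → ∀ e : E, z * e = e * z) {K : Type*} [Field K]

include hc in
/-- lifts of the elements of two commuting families commute, if some conjugation swaps the two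
families and the field has three elements -/
theorem comm_of_swap (x y : K → M) (hx : ∀ t u, x (t + u) = x t * x u)
    (hy : ∀ t u, y (t + u) = y t * y u) (hxy : ∀ t u, x t * y u = y u * x t)
    (hlx : ∀ t, ∃ e, Ψ e = x t) (hly : ∀ u, ∃ e, Ψ e = y u) (w : E)
    (hwx : ∀ t, Ψ w * x t * (Ψ w)⁻¹ = y t) (hwy : ∀ u, Ψ w * y u * (Ψ w)⁻¹ = x u)
    (hK : ∀ t : K, t = 0 ∨ t = 1 ∨ t = -1) (h3 : (1 : K) + 1 + 1 = 0) :
    ∀ b b' t u, Ψ b = x t → Ψ b' = y u → b * b' = b' * b := by
  classical
  choose l hl using hlx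
  choose l' hl' using hly
  have hcl : ∀ t u, Ψ (l t) * Ψ (l' u) = Ψ (l' u) * Ψ (l t) := fun t u => by
    rw [hl, hl']
    exact hxy t u
  let φ : K → K → Additive (Subgroup.center E) := fun t u =>
    Additive.ofMul (cz Ψ hc (l t) (l' u) (hcl t u))
  have hφl : ∀ t t' u, φ (t + t') u = φ t u + φ t' u := by
    intro t t' u
    show Additive.ofMul _ = Additive.ofMul (_ * _)
    congr 1
    apply Subtype.ext
    show ⁅l (t + t'), l' u⁆ = ⁅l t, l' u⁆ * ⁅l t', l' u⁆
    rw [comm_congr Ψ hc (a' := l t * l t') (b' := l' u) (by rw [map_mul, hl, hl, hl, hx]) rfl]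
    exact comm_mul_left_of_comm Ψ hc (hcl t' u)
  have hφr : ∀ t u u', φ t (u + u') = φ t u + φ t u' := by
    intro t u u'
    show Additive.ofMul _ = Additive.ofMul (_ * _)
    congr 1
    apply Subtype.ext
    show ⁅l t, l' (u + u')⁆ = ⁅l t, l' u⁆ * ⁅l t, l' u'⁆
    rw [comm_congr Ψ hc (a' := l t) (b' := l' u * l' u') rfl (by rw [map_mul, hl', hl', hl', hy])]
    exact comm_mul_right_of_comm Ψ hc (hcl t u')
  have hswap : ∀ t u, φ t u = - φ u t := by
    intro t u
    show Additive.ofMul _ = Additive.ofMul (_)⁻¹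
    congr 1
    apply Subtype.ext
    show ⁅l t, l' u⁆ = ⁅l u, l' t⁆⁻¹
    rw [comm_inv_swap, ← comm_conj_of_comm Ψ hc (hcl t u) w]
    apply comm_congr Ψ hc
    · rw [map_mul, map_mul, map_inv, hl, hwx, hl']
    · rw [map_mul, map_mul, map_inv, hl', hwy, hl]
  have h11 : φ 1 1 = 0 := by
    have e1 : φ 1 1 + φ 1 1 = 0 := by
      have := hswap 1 1
      rw [eq_neg_iff_add_eq_zero] at this
      exact this
    have e2 : φ 1 1 + φ 1 1 + φ 1 1 = 0 := by
      rw [← hφl, ← hφl, h3]
      exact biadd_zero_left φ hφl 1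
    rw [e1, zero_add] at e2
    exact e2
  have hall : ∀ t u, φ t u = 0 := by
    intro t u
    have h1u : ∀ u, φ 1 u = 0 := by
      intro u
      rcases hK u with rfl | rfl | rfl
      · exact biadd_zero_right φ hφr 1
      · exact h11
      · rw [biadd_neg_right φ hφr, h11, neg_zero]
    rcases hK t with rfl | rfl | rfl
    · exact biadd_zero_left φ hφl u
    · exact h1u u
    · rw [biadd_neg_left φ hφl, h1u, neg_zero]
  intro b b' t u hb hb'
  rw [← comm_eq_one_iff', comm_congr Ψ hc (a' := l t) (b' := l' u) (by rw [hb, hl])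
    (by rw [hb', hl'])]
  have h1 : cz Ψ hc (l t) (l' u) (hcl t u) = 1 := hall t u
  exact congrArg Subtype.val h1

end Cfsg.Agent.SLMult
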