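import Cfsg.Agent.Lib.Lead.SLMult.SL4
import Cfsg.Agent.Lib.Lead.SLMult.Swap
import Cfsg.Agent.Lib.Helper7.StSLC

/-!
# The central extensions of `SL_4(3)` split (lead)
-/

set_option autoImplicit false

namespace Cfsg.Agent.SLMult

open Matrix Cfsg.Agent.Lib.Helper7.StSL
open scoped commutatorElement

variable {K : Type*} [Field K] {Y : Type*} [Group Y]

/-- the elements of a field with three elements -/
theorem field_three [Fintype K] (h : Fintype.card K = 3) :
    (∀ t : K, t = 0 ∨ t = 1 ∨ t = -1) ∧ (1 : K) + 1 + 1 = 0 := by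
  classical
  have h3 : (1 : K) + 1 + 1 = 0 := by
    have := Nat.cast_card_eq_zero K
    rw [h] at this
    have e : ((3 : ℕ) : K) = 1 + 1 + 1 := by norm_num
    rw [← e]
    exact this
  have h2 : (1 : K) ≠ -1 := by
    intro e
    have e2 : (1 : K) + 1 = 0 := by nth_rw 2 [e]; exact add_neg_cancel 1
    rw [e2, zero_add] at h3
    exact one_ne_zero h3
  refine ⟨fun t => ?_, h3⟩
  have hcard : ({0, 1, -1} : Finset K).card = 3 := by
    rw [Finset.card_insert_of_notMem, Finset.card_insert_of_notMem, Finset.card_singleton]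
    · rw [Finset.mem_singleton]
      exact h2
    · rw [Finset.mem_insert, Finset.mem_singleton, not_or]
      exact ⟨zero_ne_one, fun e => one_ne_zero (neg_eq_zero.1 e.symm)⟩
  have huniv : ({0, 1, -1} : Finset K) = Finset.univ := by
    apply Finset.eq_univ_of_card
    rw [hcard, h]
  have := Finset.mem_univ t
  rw [← huniv, Finset.mem_insert, Finset.mem_insert, Finset.mem_singleton] at this
  exact this

/-- the element of the Steinberg group swapping the root subgroups `(i, j)` and `(k, l)` -/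
noncomputable def swp (K : Type*) [Field K] (i j k l : Fin 4) : St K 4 := w i k 1 * w j l 1

theorem swp_conj_ij {i j k l : Fin 4} (hij : i ≠ j) (hkl : k ≠ l) (hil : i ≠ l) (hjk : j ≠ k)
    (hik : i ≠ k) (hjl : j ≠ l) (t : K) :
    swp K i j k l * X i j t * (swp K i j k l)⁻¹ = X k l t := by
  unfold swp
  rw [conj2, w_conj_ki hjl hij.symm hil.symm 1 one_ne_zero, w_conj_ik hik hil hkl 1 one_ne_zero]
  congr 1
  simp

theorem swp_conj_kl {i j k l : Fin 4} (hij : i ≠ j) (hkl : k ≠ l) (hil : i ≠ l) (hjk : j ≠ k)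
    (hik : i ≠ k) (hjl : j ≠ l) (u : K) :
    swp K i j k l * X k l u * (swp K i j k l)⁻¹ = X i j u := by
  unfold swp
  rw [conj2, w_conj_kj hjl hjk hkl.symm 1 one_ne_zero, w_conj_jk hik hij hjk.symm 1 one_ne_zero]
  congr 1
  simp

/-- every central extension of `SL_4(3)` splits -/
theorem sl4_splits_three [Fintype K] (hK : Fintype.card K = 3)
    (ψ : Y →* SpecialLinearGroup (Fin 4) K) (hs : Function.Surjective ψ)
    (hc : ∀ z : Y, ψ z = 1 → ∀ y : Y, z * y = y * z) :
    ∃ s : SpecialLinearGroup (Fin 4) K →* Y,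
      ψ.comp s = MonoidHom.id (SpecialLinearGroup (Fin 4) K) := by
  obtain ⟨hel, h3⟩ := field_three hK
  have hm1 : (-1 : K) ≠ 1 := by
    intro e
    have e2 : (1 : K) + 1 = 0 := by nth_rw 2 [← e]; exact add_neg_cancel 1
    rw [e2, zero_add] at h3
    exact one_ne_zero h3
  apply sl4_splits_of_disjoint ⟨-1, neg_ne_zero.2 one_ne_zero, hm1⟩ ψ hs hc
  intro i j k l hij hkl hil hjk hik hjl
  obtain ⟨W, hW⟩ := hs (toSL (swp K i j k l))
  apply comm_of_swap ψ hc (xS i j) (xS k l) ((slTorData K 4).x_add i j hij)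
    ((slTorData K 4).x_add k l hkl) ((slTorData K 4).x_comm i j k l hij hkl hil hjk)
    (fun t => hs _) (fun u => hs _) W ?_ ?_ hel h3
  · intro t
    rw [hW]
    unfold xS
    rw [← map_inv, ← map_mul, ← map_mul, swp_conj_ij hij hkl hil hjk hik hjl]
  · intro u
    rw [hW]
    unfold xS
    rw [← map_inv, ← map_mul, ← map_mul, swp_conj_kl hij hkl hil hjk hik hjl]

end Cfsg.Agent.SLMult
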