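import Cfsg.Agent.Lib.Lead.SLMult.SLTor
import Cfsg.Agent.Lib.Helper7.StSLG

/-!
# Splitting a central extension of `SL_n` from lifts of the root elements satisfying Steinberg's
relations (lead)
-/

set_option autoImplicit false

namespace Cfsg.Agent.SLMult

open Matrix Cfsg.Agent.Lib.Helper7.StSL
open scoped commutatorElement

variable {K : Type*} [Field K] {n : ℕ} {Y : Type*} [Group Y]

/-- the homomorphism from the Steinberg group given by elements satisfying Steinberg's relations -/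
theorem exists_hom_of_lifts (y : Fin n → Fin n → K → Y)
    (h1 : ∀ i j, i ≠ j → ∀ t u, y i j t * y i j u = y i j (t + u))
    (h2 : ∀ i j k l, i ≠ j → k ≠ l → i ≠ l → j ≠ k → ∀ t u,
      y i j t * y k l u = y k l u * y i j t)
    (h3 : ∀ i j l, i ≠ j → j ≠ l → i ≠ l → ∀ t u, ⁅y i j t, y j l u⁆ = y i l (t * u)) :
    ∃ φ : St K n →* Y, ∀ i j, i ≠ j → ∀ t, φ (X i j t) = y i j t := by
  let f : Idx n × K → Y := fun p => y p.1.1.1 p.1.1.2 p.2
  have hrel : ∀ r ∈ rels K n, FreeGroup.lift f r = 1 := by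
    rintro r ((⟨a, t, u, rfl⟩ | ⟨a, b, t, u, hab, hba, rfl⟩) | ⟨a, b, hab, t, u, hba, rfl⟩)
    · simp only [map_mul, map_inv, FreeGroup.lift_apply_of]
      rw [mul_inv_eq_one]
      exact h1 a.1.1 a.1.2 a.2 t u
    · simp only [map_mul, map_inv, FreeGroup.lift_apply_of]
      rw [mul_inv_eq_one, mul_inv_eq_iff_eq_mul]
      exact h2 a.1.1 a.1.2 b.1.1 b.1.2 a.2 b.2 hab hba t u
    · simp only [map_mul, map_inv, FreeGroup.lift_apply_of]
      rw [mul_inv_eq_one]
      have hb : a.1.2 ≠ b.1.2 := by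
        rw [hba]
        exact b.2
      have := h3 a.1.1 a.1.2 b.1.2 a.2 hb hab t u
      rw [commutatorElement_def] at this
      show y a.1.1 a.1.2 t * y b.1.1 b.1.2 u * (y a.1.1 a.1.2 t)⁻¹ * (y b.1.1 b.1.2 u)⁻¹
        = y a.1.1 b.1.2 (t * u)
      rw [← hba]
      exact this
  refine ⟨PresentedGroup.toGroup hrel, fun i j hij t => ?_⟩
  rw [X_of hij]
  exact PresentedGroup.toGroup.of hrel

/-- a central extension of `SL_n` over a finite field splits, if the root elements have lifts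
satisfying Steinberg's relations -/
theorem splits_of_lifts [Finite K] (hn : 3 ≤ n) (ψ : Y →* SpecialLinearGroup (Fin n) K)
    (y : Fin n → Fin n → K → Y) (h0 : ∀ i j, i ≠ j → ∀ t, ψ (y i j t) = xS i j t)
    (h1 : ∀ i j, i ≠ j → ∀ t u, y i j t * y i j u = y i j (t + u))
    (h2 : ∀ i j k l, i ≠ j → k ≠ l → i ≠ l → j ≠ k → ∀ t u,
      y i j t * y k l u = y k l u * y i j t)
    (h3 : ∀ i j l, i ≠ j → j ≠ l → i ≠ l → ∀ t u, ⁅y i j t, y j l u⁆ = y i l (t * u)) :
    ∃ s : SpecialLinearGroup (Fin n) K →* Y,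
      ψ.comp s = MonoidHom.id (SpecialLinearGroup (Fin n) K) := by
  have : Fintype K := Fintype.ofFinite K
  obtain ⟨φ, hφ⟩ := exists_hom_of_lifts y h1 h2 h3
  have hcomp : ψ.comp φ = (toSL : St K n →* _) := by
    apply PresentedGroup.ext
    rintro ⟨⟨⟨i, j⟩, hij⟩, t⟩
    have hij' : i ≠ j := hij
    rw [← X_of hij' t, MonoidHom.comp_apply, hφ i j hij', h0 i j hij']
    rfl
  have hbij : Function.Bijective (toSL : St K n → _) :=
    ⟨toSL_injective hn, toSL_surjective (by omega)⟩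
  let e : St K n ≃* SpecialLinearGroup (Fin n) K := MulEquiv.ofBijective toSL hbij
  refine ⟨φ.comp e.symm.toMonoidHom, ?_⟩
  ext1 g
  show ψ (φ (e.symm g)) = g
  have h4 : ψ (φ (e.symm g)) = toSL (e.symm g) := DFunLike.congr_fun hcomp (e.symm g)
  rw [h4]
  exact e.apply_symm_apply g

end Cfsg.Agent.SLMult
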