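import Cfsg.Agent.Lib.Lead.SLMult.ARoots
import Cfsg.Agent.Lib.Lead.SLMult.StHom

/-!
# The central extensions of `SL_n(K)`, `n ≥ 5`, split (lead)

By the theorem of Milnor and Stein of `Lib/Lead/MilnorSteinC`.
-/

set_option autoImplicit false

namespace Cfsg.Agent.SLMult

open Matrix Cfsg.Agent.MilnorStein Cfsg.Agent.Lib.Helper7.StSL
open scoped commutatorElement

variable {K : Type*} [Field K] {n : ℕ}

theorem X_inj {i j : Fin n} (hij : i ≠ j) {t u : K} (h : (X i j t : St K n) = X i j u) : t = u := by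
  have h1 : mat (toSL (X i j t : St K n)) i j = mat (toSL (X i j u : St K n)) i j := by rw [h]
  have e : ∀ v : K, mat (toSL (X i j v : St K n)) i j = v := by
    intro v
    have := mat_xS hij v
    unfold xS at this
    rw [this, Matrix.add_apply, one_apply_ne hij, single_apply_same, zero_add]
  rw [e, e] at h1
  exact h1

/-- the root elements of the Steinberg group, for the theorem of Milnor and Stein -/
noncomputable def stData (K : Type*) [Field K] (hn : 5 ≤ n) : StData (aRoots hn) K (St K n) where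
  x := fun a t => X a.1.1 a.1.2 t
  N := fun a b => if a.1.2 = b.1.1 then 1 else -1
  x_add := fun a t u => (X_add a.2 t u).symm
  x_comm := by
    intro a b t u h
    by_cases hab : a = b
    · subst hab
      show X a.1.1 a.1.2 t * X a.1.1 a.1.2 u = X a.1.1 a.1.2 u * X a.1.1 a.1.2 t
      rw [X_add a.2, X_add a.2, add_comm]
    · have h' : 0 ≤ pA a b := h
      unfold pA at h'
      have h1 := dl_cases a.1.1 b.1.1
      have h2 := dl_cases a.1.1 b.1.2
      have h3 := dl_cases a.1.2 b.1.1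
      have h4 := dl_cases a.1.2 b.1.2
      have ha := a.2
      have hb := b.2
      exact X_comm a.2 b.2 (by omega) (by omega) t u
  x_sum := by
    intro a b t u h
    have h' : pA a b = -1 := h
    rcases pA_eq_neg_one h' with ⟨e1, e2, e3, e4⟩ | ⟨e1, e2, e3, e4⟩
    · have hadd : (aRoots hn).add a b = ⟨(a.1.1, b.1.2), e2⟩ := dif_pos ⟨e1, e2⟩
      rw [hadd, if_pos e1, one_mul, commutatorElement_def]
      show X a.1.1 a.1.2 t * X b.1.1 b.1.2 u * (X a.1.1 a.1.2 t)⁻¹ * (X b.1.1 b.1.2 u)⁻¹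
        = X a.1.1 b.1.2 (t * u)
      rw [← e1]
      exact X_comm3 a.2 e4 e2 t u
    · have hne : ¬ (a.1.2 = b.1.1 ∧ a.1.1 ≠ b.1.2) := fun h' => e2 h'.1
      have hb : b.1.1 ≠ a.1.2 := fun h' => e2 h'.symm
      have hadd : (aRoots hn).add a b = ⟨(b.1.1, a.1.2), hb⟩ := by
        show addA a b = _
        unfold addA
        rw [dif_neg hne, dif_pos ⟨e1, hb⟩]
      rw [hadd, if_neg e2]
      show ⁅X a.1.1 a.1.2 t, X b.1.1 b.1.2 u⁆ = X b.1.1 a.1.2 (-1 * t * u)
      have hb2 : b.1.2 ≠ a.1.2 := by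
        rw [← e1]
        exact a.2
      have h3 := X_comm3 b.2 hb2 hb u t
      have e5 : (-1 : K) * t * u = -(u * t) := by ring
      rw [e5, ← X_inv hb, ← h3, commutatorElement_def, e1]
      group
  N_sq := by
    intro a b _
    by_cases h : a.1.2 = b.1.1
    · rw [if_pos h, one_mul]
    · rw [if_neg h]
      ring
  x_inj := fun a t u h => X_inj a.2 h

/-- every central extension of the Steinberg group of `SL_n`, `n ≥ 5`, splits -/
theorem st_splits (hn : 5 ≤ n) {Y : Type*} [Group Y] (ψ : Y →* St K n)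
    (hs : Function.Surjective ψ) (hc : ∀ z : Y, ψ z = 1 → ∀ y : Y, z * y = y * z) :
    ∃ φ : St K n →* Y, ψ.comp φ = MonoidHom.id (St K n) := by
  apply splits (stData K hn) hs hc
  · rw [eq_top_iff]
    intro g _
    refine PresentedGroup.generated_by _ _ ?_ g
    rintro ⟨⟨⟨i, j⟩, hij⟩, t⟩
    apply Subgroup.subset_closure
    refine ⟨⟨(i, j), hij⟩, t, ?_⟩
    have hij' : i ≠ j := hij
    exact (X_of hij' t).symm
  · intro y h1 h2 h3
    obtain ⟨y', hy'⟩ : ∃ y' : Fin n → Fin n → K → Y,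
        ∀ i j (h : i ≠ j) t, y' i j t = y ⟨(i, j), h⟩ t :=
      ⟨fun i j t => if h : i ≠ j then y ⟨(i, j), h⟩ t else 1, fun i j h t => dif_pos h⟩
    have hy1 : ∀ i j, i ≠ j → ∀ t u, y' i j t * y' i j u = y' i j (t + u) := by
      intro i j hij t u
      rw [hy' i j hij, hy' i j hij, hy' i j hij]
      exact (h1 _ t u).symm
    have hy2 : ∀ i j k l, i ≠ j → k ≠ l → i ≠ l → j ≠ k → ∀ t u,
        y' i j t * y' k l u = y' k l u * y' i j t := by
      intro i j k l hij hkl hil hjk t u
      rw [hy' i j hij, hy' k l hkl]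
      apply h2
      show 0 ≤ pA (⟨(i, j), hij⟩ : Idx n) ⟨(k, l), hkl⟩
      unfold pA
      show 0 ≤ dl i k - dl i l - dl j k + dl j l
      rw [dl_ne hil, dl_ne hjk]
      have h1 := dl_cases i k
      have h4 := dl_cases j l
      omega
    have hy3 : ∀ i j l, i ≠ j → j ≠ l → i ≠ l → ∀ t u,
        ⁅y' i j t, y' j l u⁆ = y' i l (t * u) := by
      intro i j l hij hjl hil t u
      rw [hy' i j hij, hy' j l hjl, hy' i l hil]
      have hp : (aRoots hn).p (⟨(i, j), hij⟩ : Idx n) ⟨(j, l), hjl⟩ = -1 := by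
        show pA (⟨(i, j), hij⟩ : Idx n) ⟨(j, l), hjl⟩ = -1
        unfold pA
        show dl i j - dl i l - dl j j + dl j l = -1
        rw [dl_ne hij, dl_ne hil, dl_self, dl_ne hjl]
        norm_num
      have := h3 (⟨(i, j), hij⟩ : Idx n) ⟨(j, l), hjl⟩ t u hp
      rw [this]
      have hadd : (aRoots hn).add (⟨(i, j), hij⟩ : Idx n) ⟨(j, l), hjl⟩ = ⟨(i, l), hil⟩ :=
        dif_pos ⟨rfl, hil⟩
      rw [hadd]
      congr 1
      show (if j = j then (1 : K) else -1) * t * u = t * u
      rw [if_pos rfl, one_mul]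
    obtain ⟨φ, hφ⟩ := exists_hom_of_lifts y' hy1 hy2 hy3
    refine ⟨φ, fun a t => ?_⟩
    rw [← hy' a.1.1 a.1.2 a.2 t]
    exact hφ a.1.1 a.1.2 a.2 t

/-- every central extension of `SL_n(K)`, `n ≥ 5`, `K` finite, splits -/
theorem sl5_splits [Finite K] (hn : 5 ≤ n) {Y : Type*} [Group Y]
    (ψ : Y →* SpecialLinearGroup (Fin n) K) (hs : Function.Surjective ψ)
    (hc : ∀ z : Y, ψ z = 1 → ∀ y : Y, z * y = y * z) :
    ∃ s : SpecialLinearGroup (Fin n) K →* Y,
      ψ.comp s = MonoidHom.id (SpecialLinearGroup (Fin n) K) := by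
  have : Fintype K := Fintype.ofFinite K
  have hbij : Function.Bijective (toSL : St K n → _) :=
    ⟨toSL_injective (by omega), toSL_surjective (by omega)⟩
  let e : St K n ≃* SpecialLinearGroup (Fin n) K := MulEquiv.ofBijective toSL hbij
  obtain ⟨φ, hφ⟩ := st_splits hn (e.symm.toMonoidHom.comp ψ)
    (e.symm.surjective.comp hs) (by
      intro z hz y
      apply hc z
      have : e.symm (ψ z) = 1 := hz
      rw [← e.symm.map_one] at this
      exact e.symm.injective this)
  refine ⟨φ.comp e.symm.toMonoidHom, ?_⟩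
  ext1 g
  show ψ (φ (e.symm g)) = g
  have h4 : e.symm (ψ (φ (e.symm g))) = e.symm g := DFunLike.congr_fun hφ (e.symm g)
  exact e.symm.injective h4

end Cfsg.Agent.SLMult
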