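import Cfsg.Agent.Lib.Lead.SLMult.UnivFin
import Cfsg.Agent.Lib.Lead.SLMult.SL3
import Cfsg.Agent.Lib.Lead.SLMult.SL4F3
import Cfsg.Agent.Lib.Lead.SLMult.SL5
import Cfsg.Agent.Lib.Helper5.MultSL2.Main
import Cfsg.Agent.Lib.Helper5.SLn
import Cfsg.Agent.Lib.SLk.Center

/-!
# The Schur multiplier of `PSL_n(q)` (lead)
-/

set_option autoImplicit false

namespace Cfsg.Agent.SLMult

open Matrix
open scoped commutatorElement

universe u

variable {F : Type u} [Field F] [Fintype F]

/-- a non-zero scalar outside a small set -/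
theorem exists_not_mem (s : Finset F) (h : s.card < Fintype.card F) : ∃ c : F, c ∉ s := by
  by_contra hcon
  push Not at hcon
  have : s = Finset.univ := Finset.eq_univ_iff_forall.2 hcon
  rw [this, Finset.card_univ] at h
  exact lt_irrefl _ h

theorem exists_sq_ne_one (h : 4 ≤ Fintype.card F) : ∃ c : F, c ≠ 0 ∧ c ^ 2 ≠ 1 := by
  classical
  obtain ⟨c, hc⟩ := exists_not_mem ({0, 1, -1} : Finset F)
    (lt_of_le_of_lt Finset.card_le_three (by omega))
  rw [Finset.mem_insert, Finset.mem_insert, Finset.mem_singleton, not_or, not_or] at hc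
  refine ⟨c, hc.1, fun e => ?_⟩
  have : (c - 1) * (c + 1) = 0 := by
    have : (c - 1) * (c + 1) = c ^ 2 - 1 := by ring
    rw [this, e, sub_self]
  rcases mul_eq_zero.1 this with h1 | h1
  · exact hc.2.1 (sub_eq_zero.1 h1)
  · exact hc.2.2 (eq_neg_of_add_eq_zero_left h1)

theorem exists_cube_ne_one (h2 : Fintype.card F ≠ 2) (h4 : Fintype.card F ≠ 4) :
    ∃ c : F, c ≠ 0 ∧ c ^ 3 ≠ 1 := by
  classical
  by_cases h5 : 4 < Fintype.card F
  · exact Cfsg.Agent.Lib.Helper5.UC.exists_pow_ne_one ⟨Finset.univ, by rw [Finset.card_univ]; exact h5⟩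
      3 (by norm_num) (by norm_num)
  · have h1 : 1 < Fintype.card F := Fintype.one_lt_card
    have h3 : Fintype.card F = 3 := by omega
    obtain ⟨-, h111⟩ := field_three h3
    refine ⟨-1, neg_ne_zero.2 one_ne_zero, fun e => ?_⟩
    have e1 : (-1 : F) ^ 3 = -1 := by ring
    rw [e1] at e
    have e2 : (1 : F) + 1 = 0 := by nth_rw 2 [← e]; exact add_neg_cancel 1
    rw [e2, zero_add] at h111
    exact one_ne_zero h111

/-- `SL_n(q)` is perfect for `n ≥ 3`, and for `n = 2`, `q ≥ 4` -/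
theorem sl_perfect (n : ℕ) (hn : 2 ≤ n) (h2 : n = 2 → 4 ≤ Fintype.card F) :
    commutator (SpecialLinearGroup (Fin n) F) = ⊤ := by
  have hnt : Nontrivial (Fin n) := by
    obtain ⟨m, rfl⟩ : ∃ m, n = m + 2 := ⟨n - 2, by omega⟩
    infer_instance
  apply Cfsg.Agent.Lib.Helper5.SLn.commutator_eq_top
  by_cases h3 : 3 ≤ n
  · left
    intro i j
    obtain ⟨m, h1, h2⟩ := Cfsg.Agent.Lib.Helper7.StSL.exists_third h3 i j
    exact ⟨m, h1.symm, h2.symm⟩
  · right
    exact exists_sq_ne_one (h2 (by omega))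

/-- the finite central extensions of `SL_n(q)` split, apart from the exceptional pairs -/
theorem sl_splits (n : ℕ) (hn : 2 ≤ n) (h2 : n = 2 → 4 ≤ Fintype.card F)
    (hexc : (n, Fintype.card F) ∉ ({(2, 4), (2, 9), (3, 2), (3, 4), (4, 2)} : Set (ℕ × ℕ)))
    (Y : Type u) [Group Y] [Finite Y] (ψ : Y →* SpecialLinearGroup (Fin n) F)
    (hs : Function.Surjective ψ) (hc : ∀ z : Y, ψ z = 1 → ∀ y : Y, z * y = y * z) :
    ∃ s : SpecialLinearGroup (Fin n) F →* Y,
      ψ.comp s = MonoidHom.id (SpecialLinearGroup (Fin n) F) := by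
  simp only [Set.mem_insert_iff, Set.mem_singleton_iff, Prod.mk.injEq, not_or, not_and] at hexc
  obtain ⟨e24, e29, e32, e34, e42⟩ := hexc
  have h1 : 1 < Fintype.card F := Fintype.one_lt_card
  rcases Nat.lt_or_ge n 5 with h5 | h5
  · interval_cases n
    · -- `n = 2`
      apply splits_of_stem_trivial (sl_perfect 2 hn h2) ?_ Y ψ hs hc
      intro Γ _ _ σ hσ
      exact Cfsg.Agent.Lib.Helper5.MultSL2.ker_eq_bot_of_stem (e24 rfl) (e29 rfl) σ hσ
    · -- `n = 3`
      exact sl3_splits (exists_cube_ne_one (e32 rfl) (e34 rfl)) ψ hs hc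
    · -- `n = 4`
      by_cases h3 : Fintype.card F = 3
      · exact sl4_splits_three h3 ψ hs hc
      · have := e42 rfl
        exact sl4_splits (exists_sq_ne_one (by omega)) ψ hs hc
  · exact sl5_splits h5 ψ hs hc

/-- the Schur multiplier of `PSL_n(q)` -/
theorem multiplier_psl (n : ℕ) (hn : 2 ≤ n) (h2 : n = 2 → 4 ≤ Fintype.card F)
    (hexc : (n, Fintype.card F) ∉ ({(2, 4), (2, 9), (3, 2), (3, 4), (4, 2)} : Set (ℕ × ℕ))) :
    Cfsg.HasCyclicSchurMultiplier (Matrix.ProjectiveSpecialLinearGroup (Fin n) F)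
      (Nat.gcd n (Fintype.card F - 1)) := by
  classical
  let σ : SpecialLinearGroup (Fin n) F →* Matrix.ProjectiveSpecialLinearGroup (Fin n) F :=
    QuotientGroup.mk' (Subgroup.center (SpecialLinearGroup (Fin n) F))
  have hσ : Function.Surjective σ := QuotientGroup.mk'_surjective _
  have hker : σ.ker = Subgroup.center (SpecialLinearGroup (Fin n) F) := QuotientGroup.ker_mk' _
  have hcyc : IsCyclic (Subgroup.center (SpecialLinearGroup (Fin n) F)) := by
    have e := Matrix.SpecialLinearGroup.center_equiv_rootsOfUnity (n := Fin n) (R := F)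
    exact isCyclic_of_surjective e.symm.toMonoidHom e.symm.surjective
  have hcard : Nat.card (Subgroup.center (SpecialLinearGroup (Fin n) F))
      = Nat.gcd n (Fintype.card F - 1) := Cfsg.Agent.SLk.card_center_SL n (by omega)
  have hcyc' : IsCyclic σ.ker := by rw [hker]; exact hcyc
  have hcard' : Nat.card σ.ker = Nat.gcd n (Fintype.card F - 1) := by rw [hker]; exact hcard
  have e : σ.ker ≃* Multiplicative (ZMod (Nat.gcd n (Fintype.card F - 1))) := by
    rw [← hcard']
    exact (zmodCyclicMulEquiv hcyc').symm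
  exact hasSchurMultiplier_of_universal_fin σ hσ (by rw [hker]) (sl_perfect n hn h2)
    (fun Y _ _ ψ hs hc => sl_splits n hn h2 hexc Y ψ hs hc) e

end Cfsg.Agent.SLMult
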