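import Cfsg.Agent.Lib.Lead.MilnorSteinC
import Cfsg.Agent.Lib.Helper7.StSLA

/-!
# The root system of type `A_{n-1}`, `n ≥ 5`, has room (lead)
-/

set_option autoImplicit false

namespace Cfsg.Agent.SLMult

open Cfsg.Agent.MilnorStein Cfsg.Agent.Lib.Helper7.StSL

variable {n : ℕ}

/-- Kronecker's symbol -/
def dl (a b : Fin n) : ℤ := if a = b then 1 else 0

theorem dl_self (a : Fin n) : dl a a = 1 := if_pos rfl

theorem dl_ne {a b : Fin n} (h : a ≠ b) : dl a b = 0 := if_neg h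

theorem dl_comm (a b : Fin n) : dl a b = dl b a := by
  unfold dl
  by_cases h : a = b
  · rw [if_pos h, if_pos h.symm]
  · rw [if_neg h, if_neg (fun e => h e.symm)]

theorem dl_cases (a b : Fin n) : (a = b ∧ dl a b = 1) ∨ (a ≠ b ∧ dl a b = 0) := by
  by_cases h : a = b
  · exact Or.inl ⟨h, by rw [h]; exact dl_self b⟩
  · exact Or.inr ⟨h, dl_ne h⟩

/-- the pairing of the roots `e_i - e_j` -/
def pA (a b : Idx n) : ℤ := dl a.1.1 b.1.1 - dl a.1.1 b.1.2 - dl a.1.2 b.1.1 + dl a.1.2 b.1.2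

/-- the opposite root -/
def negA (a : Idx n) : Idx n := ⟨(a.1.2, a.1.1), a.2.symm⟩

/-- the sum of two roots -/
def addA (a b : Idx n) : Idx n :=
  if h : a.1.2 = b.1.1 ∧ a.1.1 ≠ b.1.2 then ⟨(a.1.1, b.1.2), h.2⟩
  else if h' : a.1.1 = b.1.2 ∧ b.1.1 ≠ a.1.2 then ⟨(b.1.1, a.1.2), h'.2⟩
  else a

theorem idx_ext {a b : Idx n} (h1 : a.1.1 = b.1.1) (h2 : a.1.2 = b.1.2) : a = b :=
  Subtype.ext (Prod.ext h1 h2)

theorem pA_eq_neg_one {a b : Idx n} (h : pA a b = -1) :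
    (a.1.2 = b.1.1 ∧ a.1.1 ≠ b.1.2 ∧ a.1.1 ≠ b.1.1 ∧ a.1.2 ≠ b.1.2) ∨
    (a.1.1 = b.1.2 ∧ a.1.2 ≠ b.1.1 ∧ a.1.1 ≠ b.1.1 ∧ a.1.2 ≠ b.1.2) := by
  unfold pA at h
  have ha := a.2
  have hb := b.2
  rcases dl_cases a.1.1 b.1.1 with ⟨e1, h1⟩ | ⟨e1, h1⟩ <;>
  rcases dl_cases a.1.1 b.1.2 with ⟨e2, h2⟩ | ⟨e2, h2⟩ <;>
  rcases dl_cases a.1.2 b.1.1 with ⟨e3, h3⟩ | ⟨e3, h3⟩ <;>
  rcases dl_cases a.1.2 b.1.2 with ⟨e4, h4⟩ | ⟨e4, h4⟩ <;>
  rw [h1, h2, h3, h4] at h <;> omega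

theorem exists_fresh (hn : 5 ≤ n) (a b c d : Fin n) :
    ∃ m : Fin n, m ≠ a ∧ m ≠ b ∧ m ≠ c ∧ m ≠ d := by
  classical
  by_contra hcon
  push Not at hcon
  have h1 : (Finset.univ : Finset (Fin n)) ⊆ {a, b, c, d} := by
    intro m _
    simp only [Finset.mem_insert, Finset.mem_singleton]
    by_cases h1 : m = a
    · exact Or.inl h1
    · by_cases h2 : m = b
      · exact Or.inr (Or.inl h2)
      · by_cases h3 : m = c
        · exact Or.inr (Or.inr (Or.inl h3))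
        · exact Or.inr (Or.inr (Or.inr (hcon m h1 h2 h3)))
  have h2 := Finset.card_le_card h1
  rw [Finset.card_univ, Fintype.card_fin] at h2
  have h3 : ({a, b, c, d} : Finset (Fin n)).card ≤ 4 := Finset.card_le_four
  omega

/-- the root system of type `A_{n-1}` -/
def aRoots (hn : 5 ≤ n) : SLRoots (Idx n) where
  p := pA
  neg := negA
  add := addA
  p_self := by
    intro a
    unfold pA
    have ha := a.2
    have h1 := dl_cases a.1.1 a.1.2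
    have h2 := dl_cases a.1.2 a.1.1
    rw [dl_self, dl_self]
    omega
  p_symm := by
    intro a b
    unfold pA
    rw [dl_comm a.1.1 b.1.1, dl_comm a.1.1 b.1.2, dl_comm a.1.2 b.1.1, dl_comm a.1.2 b.1.2]
    ring
  p_le := by
    intro a b
    unfold pA
    have h1 := dl_cases a.1.1 b.1.1
    have h2 := dl_cases a.1.1 b.1.2
    have h3 := dl_cases a.1.2 b.1.1
    have h4 := dl_cases a.1.2 b.1.2
    omega
  eq_of_p := by
    intro a b h
    unfold pA at h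
    have h1 := dl_cases a.1.1 b.1.1
    have h2 := dl_cases a.1.1 b.1.2
    have h3 := dl_cases a.1.2 b.1.1
    have h4 := dl_cases a.1.2 b.1.2
    apply idx_ext <;> omega
  p_neg := by
    intro a b
    unfold pA negA
    ring
  p_add := by
    intro a b h γ
    rcases pA_eq_neg_one h with ⟨e1, e2, e3, e4⟩ | ⟨e1, e2, e3, e4⟩
    · have : addA a b = ⟨(a.1.1, b.1.2), e2⟩ := dif_pos ⟨e1, e2⟩
      rw [this]
      unfold pA
      show dl a.1.1 γ.1.1 - dl a.1.1 γ.1.2 - dl b.1.2 γ.1.1 + dl b.1.2 γ.1.2 = _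
      rw [e1]
      ring
    · have hne : ¬ (a.1.2 = b.1.1 ∧ a.1.1 ≠ b.1.2) := fun h' => e2 h'.1
      have hb : b.1.1 ≠ a.1.2 := fun h' => e2 h'.symm
      have : addA a b = ⟨(b.1.1, a.1.2), hb⟩ := by
        unfold addA
        rw [dif_neg hne, dif_pos ⟨e1, hb⟩]
      rw [this]
      unfold pA
      show dl b.1.1 γ.1.1 - dl b.1.1 γ.1.2 - dl a.1.2 γ.1.1 + dl a.1.2 γ.1.2 = _
      rw [e1]
      ring
  room1 := by
    intro a b h
    obtain ⟨m, hm1, hm2, hm3, hm4⟩ := exists_fresh hn a.1.1 a.1.2 b.1.1 b.1.2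
    refine ⟨⟨(a.1.1, m), hm1.symm⟩, ?_, ?_, ?_⟩
    · unfold pA
      show dl a.1.1 a.1.1 - dl a.1.1 a.1.2 - dl m a.1.1 + dl m a.1.2 = 1
      rw [dl_self, dl_ne a.2, dl_ne hm1, dl_ne hm2]
      norm_num
    · unfold pA at h ⊢
      show 0 ≤ dl a.1.1 b.1.1 - dl a.1.1 b.1.2 - dl m b.1.1 + dl m b.1.2
      rw [dl_ne hm3, dl_ne hm4]
      have h1 := dl_cases a.1.1 b.1.1
      have h2 := dl_cases a.1.1 b.1.2
      have h3 := dl_cases a.1.2 b.1.1
      have h4 := dl_cases a.1.2 b.1.2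
      have ha := a.2
      have hb := b.2
      omega
    · unfold pA at h ⊢
      show dl a.1.1 b.1.1 - dl a.1.1 b.1.2 - dl m b.1.1 + dl m b.1.2 ≤ _
      rw [dl_ne hm3, dl_ne hm4]
      have h1 := dl_cases a.1.1 b.1.1
      have h2 := dl_cases a.1.1 b.1.2
      have h3 := dl_cases a.1.2 b.1.1
      have h4 := dl_cases a.1.2 b.1.2
      have ha := a.2
      have hb := b.2
      omega
  room2 := by
    intro g t h
    obtain ⟨m, hm1, hm2, hm3, hm4⟩ := exists_fresh hn g.1.1 g.1.2 t.1.1 t.1.2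
    rcases pA_eq_neg_one h with ⟨e1, e2, e3, e4⟩ | ⟨e1, e2, e3, e4⟩
    · -- `g = (i, j)`, `t = (j, l)`: take `(j, m)`
      refine ⟨⟨(g.1.2, m), hm2.symm⟩, ?_, ?_⟩
      · unfold pA
        show dl g.1.2 g.1.1 - dl g.1.2 g.1.2 - dl m g.1.1 + dl m g.1.2 = -1
        rw [dl_self, dl_ne g.2.symm, dl_ne hm1, dl_ne hm2]
        norm_num
      · unfold pA
        show dl g.1.2 t.1.1 - dl g.1.2 t.1.2 - dl m t.1.1 + dl m t.1.2 = 1
        rw [e1, dl_self, dl_ne t.2, dl_ne hm3, dl_ne hm4]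
        norm_num
    · -- `g = (i, j)`, `t = (k, i)`: take `(m, i)`
      refine ⟨⟨(m, g.1.1), hm1⟩, ?_, ?_⟩
      · unfold pA
        show dl m g.1.1 - dl m g.1.2 - dl g.1.1 g.1.1 + dl g.1.1 g.1.2 = -1
        rw [dl_self, dl_ne g.2, dl_ne hm1, dl_ne hm2]
        norm_num
      · unfold pA
        show dl m t.1.1 - dl m t.1.2 - dl g.1.1 t.1.1 + dl g.1.1 t.1.2 = 1
        rw [e1, dl_self, dl_ne t.2.symm, dl_ne hm3, dl_ne hm4]
        norm_num

end Cfsg.Agent.SLMult
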