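import Cfsg.Agent.Lib.Lead.SLMult.StHom

/-!
# The central extensions of `SL_4(K)` split, `|K| ≠ 2` (lead)

Up to the commutation of the lifts of the root elements of two disjoint roots, which is proved here
for fields with more than three elements.
-/

set_option autoImplicit false

namespace Cfsg.Agent.SLMult

open Matrix Cfsg.Agent.Lib.Helper7.StSL
open scoped commutatorElement

variable {K : Type*} [Field K] {Y : Type*} [Group Y]

theorem fin4_third : ∀ i j : Fin 4, ∃ m : Fin 4, i ≠ m ∧ j ≠ m := by decide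

theorem fin4_fourth : ∀ i j l : Fin 4, ∃ m : Fin 4, i ≠ m ∧ j ≠ m ∧ l ≠ m := by decide

/-- every central extension of `SL_4(K)` splits, if the lifts of the root elements of two disjoint
roots commute -/
theorem sl4_splits_of_disjoint [Finite K] (hK : ∃ c : K, c ≠ 0 ∧ c ≠ 1)
    (ψ : Y →* SpecialLinearGroup (Fin 4) K) (hs : Function.Surjective ψ)
    (hc : ∀ z : Y, ψ z = 1 → ∀ y : Y, z * y = y * z)
    (hdisj : ∀ i j k l : Fin 4, i ≠ j → k ≠ l → i ≠ l → j ≠ k → i ≠ k → j ≠ l →
      LC (slTorData K 4) ψ i j k l) :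
    ∃ s : SpecialLinearGroup (Fin 4) K →* Y,
      ψ.comp s = MonoidHom.id (SpecialLinearGroup (Fin 4) K) := by
  obtain ⟨c, hc0, hc1⟩ := hK
  have hc1' : c⁻¹ ≠ 1 := by
    intro e
    apply hc1
    rw [← inv_inv c, e, inv_one]
  let S := slTorData K 4
  have h1 : ∀ i j, i ≠ j → ∃ a ∈ S.T, S.chi a i j ≠ 1 := by
    intro i j hij
    obtain ⟨m, him, hjm⟩ := fin4_third i j
    refine ⟨SpecialLinearGroup.diag2n him c hc0, diag2n_mem him c hc0, ?_⟩
    show chiS _ i j ≠ 1
    rw [chiS_diag2n]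
    simp only [if_true, if_neg hij.symm, if_neg hjm, inv_one, mul_one]
    exact hc1
  have hLC : ∀ i j k l, i ≠ j → k ≠ l → i ≠ l → j ≠ k → LC S ψ i j k l := by
    intro i j k l hij hkl hil hjk
    by_cases hik : i = k
    · subst hik
      by_cases hjl : j = l
      · subst hjl
        obtain ⟨m, him, hjm⟩ := fin4_third i j
        exact lc_of_dec hs hc hij him hjm.symm hij him hij.symm hij hjm
      · -- the same row
        obtain ⟨m, him, hjm, hlm⟩ := fin4_fourth i j l
        exact lc_of_dec hs hc hij him hlm.symm hil him hij.symm hil hjm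
    · by_cases hjl : j = l
      · subst hjl
        -- the same column
        obtain ⟨m, him, hjm, hkm⟩ := fin4_fourth i j k
        exact lc_of_dec hs hc hij hkm hjm.symm hkl him hjk hij hjm
      · exact hdisj i j k l hij hkl hil hjk hik hjl
  have h3 : ∀ i j l, i ≠ j → j ≠ l → i ≠ l → ∃ a ∈ S.T, S.chi a i j = 1 ∧ S.chi a j l ≠ 1 := by
    intro i j l hij hjl hil
    obtain ⟨m, him, hjm, hlm⟩ := fin4_fourth i j l
    refine ⟨SpecialLinearGroup.diag2n hlm c hc0, diag2n_mem hlm c hc0, ?_, ?_⟩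
    · show chiS _ i j = 1
      rw [chiS_diag2n]
      simp only [if_neg hil, if_neg him, if_neg hjl, if_neg hjm, inv_one, mul_one]
    · show chiS _ j l ≠ 1
      rw [chiS_diag2n]
      simp only [if_true, if_neg hjl, if_neg hjm, one_mul]
      exact hc1'
  obtain ⟨y, e0, e1, e2, e3⟩ := exists_lifts hs hc h1 hLC h3
  exact splits_of_lifts (by norm_num) ψ y e0 e1 e2 e3

/-- every central extension of `SL_4(K)` splits, if `K` is finite and `c² ≠ 1` for some `c ≠ 0` -/
theorem sl4_splits [Finite K] (hK : ∃ c : K, c ≠ 0 ∧ c ^ 2 ≠ 1)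
    (ψ : Y →* SpecialLinearGroup (Fin 4) K) (hs : Function.Surjective ψ)
    (hc : ∀ z : Y, ψ z = 1 → ∀ y : Y, z * y = y * z) :
    ∃ s : SpecialLinearGroup (Fin 4) K →* Y,
      ψ.comp s = MonoidHom.id (SpecialLinearGroup (Fin 4) K) := by
  obtain ⟨c, hc0, hc2⟩ := hK
  have hc1 : c ≠ 1 := by
    rintro rfl
    exact hc2 (one_pow 2)
  apply sl4_splits_of_disjoint ⟨c, hc0, hc1⟩ ψ hs hc
  intro i j k l hij hkl hil hjk hik hjl
  apply lc_of_torus hs hc hij hkl hil hjk (SpecialLinearGroup.diag2n hkl c hc0)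
    (diag2n_mem hkl c hc0)
  · show chiS _ i j = 1
    rw [chiS_diag2n]
    simp only [if_neg hik, if_neg hil, if_neg hjk, if_neg hjl, inv_one, mul_one]
  · show chiS _ k l ≠ 1
    rw [chiS_diag2n]
    simp only [if_true, if_neg hkl.symm, inv_inv]
    rw [← pow_two]
    exact hc2

end Cfsg.Agent.SLMult
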