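import Cfsg.Agent.Lib.Lead.SLMult.Tor
import Cfsg.Agent.Lib.Helper7.StSLA

/-!
# The root elements and the diagonal torus of `SL_n` (lead)
-/

set_option autoImplicit false

namespace Cfsg.Agent.SLMult

open Matrix Cfsg.Agent.Lib.Helper7.StSL
open scoped commutatorElement

variable {K : Type*} [Field K] {n : ℕ}

local notation "SLn" => SpecialLinearGroup (Fin n) K

/-- the matrix of an element of `SL_n` -/
def mat (g : SLn) : Matrix (Fin n) (Fin n) K := g

theorem mat_mul (g g' : SLn) : mat (g * g') = mat g * mat g' :=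
  Matrix.SpecialLinearGroup.coe_mul g g'

theorem mat_one : mat (1 : SLn) = 1 := Matrix.SpecialLinearGroup.coe_one

theorem mat_det (g : SLn) : (mat g).det = 1 := g.2

theorem mat_ext {g g' : SLn} (h : mat g = mat g') : g = g' := Subtype.ext h

/-- a matrix with vanishing off-diagonal entries is diagonal -/
theorem eq_diagonal {M : Matrix (Fin n) (Fin n) K} (h : ∀ a b, a ≠ b → M a b = 0) :
    M = diagonal (fun a => M a a) := by
  ext a b
  by_cases hab : a = b
  · subst hab
    rw [diagonal_apply_eq]
  · rw [diagonal_apply_ne _ hab, h a b hab]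

theorem diag_ne_zero {M : Matrix (Fin n) (Fin n) K} (h : ∀ a b, a ≠ b → M a b = 0)
    (hdet : M.det = 1) (a : Fin n) : M a a ≠ 0 := by
  rw [eq_diagonal h, det_diagonal] at hdet
  have h1 : (∏ a, M a a) ≠ 0 := by rw [hdet]; exact one_ne_zero
  exact (Finset.prod_ne_zero_iff.1 h1) a (Finset.mem_univ a)

/-- the diagonal matrices of determinant one -/
def diagT (K : Type*) [Field K] (n : ℕ) : Subgroup (SpecialLinearGroup (Fin n) K) where
  carrier := {g | ∀ a b, a ≠ b → mat g a b = 0}
  one_mem' := by
    intro a b hab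
    rw [mat_one, one_apply_ne hab]
  mul_mem' := by
    intro g g' hg hg' a b hab
    rw [mat_mul, Matrix.mul_apply]
    apply Finset.sum_eq_zero
    intro c _
    by_cases hac : a = c
    · subst hac
      rw [hg' a b hab, mul_zero]
    · rw [hg a c hac, zero_mul]
  inv_mem' := by
    intro g hg
    have hdiag := eq_diagonal hg
    have hne := diag_ne_zero hg (mat_det g)
    have hdet : ∏ a, mat g a a = 1 := by
      have := mat_det g
      rw [hdiag, det_diagonal] at this
      exact this
    let h : SpecialLinearGroup (Fin n) K := ⟨diagonal (fun a => (mat g a a)⁻¹), by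
      rw [det_diagonal, Finset.prod_inv_distrib, hdet, inv_one]⟩
    have hh : mat h = diagonal (fun a => (mat g a a)⁻¹) := rfl
    have hgh : g * h = 1 := by
      apply mat_ext
      rw [mat_mul, mat_one, hh, hdiag, diagonal_mul_diagonal]
      simp only [diagonal_apply_eq]
      rw [← diagonal_one]
      congr 1
      funext a
      exact mul_inv_cancel₀ (hne a)
    have e : g⁻¹ = h := inv_eq_of_mul_eq_one_right hgh
    rw [e]
    intro a b hab
    rw [hh]
    exact diagonal_apply_ne _ hab

theorem diagT_eq {g : SLn} (hg : g ∈ diagT K n) : mat g = diagonal (fun a => mat g a a) :=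
  eq_diagonal hg

theorem diagT_ne_zero {g : SLn} (hg : g ∈ diagT K n) (a : Fin n) : mat g a a ≠ 0 :=
  diag_ne_zero hg (mat_det g) a

theorem diagT_comm {g g' : SLn} (hg : g ∈ diagT K n) (hg' : g' ∈ diagT K n) :
    g * g' = g' * g := by
  apply mat_ext
  rw [mat_mul, mat_mul, diagT_eq hg, diagT_eq hg', diagonal_mul_diagonal, diagonal_mul_diagonal]
  congr 1
  funext a
  exact mul_comm _ _

/-- the diagonal entries are multiplicative on the torus -/
theorem diagT_mul_apply {g g' : SLn} (hg : g ∈ diagT K n) (hg' : g' ∈ diagT K n) (a : Fin n) :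
    mat (g * g') a a = mat g a a * mat g' a a := by
  rw [mat_mul, diagT_eq hg, diagT_eq hg', diagonal_mul_diagonal]
  simp only [diagonal_apply_eq]

/-- the root elements -/
noncomputable def xS (i j : Fin n) (t : K) : SLn := toSL (X i j t)

theorem xS_eq {i j : Fin n} (h : i ≠ j) (t : K) : xS i j t = SpecialLinearGroup.transvection h t :=
  toSL_X h t

theorem mat_xS {i j : Fin n} (h : i ≠ j) (t : K) : mat (xS i j t) = 1 + single i j t := by
  rw [xS_eq h]
  rfl

/-- the scalar by which a diagonal matrix acts on the root subgroup `(i, j)` -/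
def chiS (g : SLn) (i j : Fin n) : K := mat g i i * (mat g j j)⁻¹

theorem diagT_conj {g : SLn} (hg : g ∈ diagT K n) {i j : Fin n} (hij : i ≠ j) (t : K) :
    g * xS i j t * g⁻¹ = xS i j (chiS g i j * t) := by
  rw [mul_inv_eq_iff_eq_mul]
  apply mat_ext
  rw [mat_mul, mat_mul, mat_xS hij, mat_xS hij, diagT_eq hg, Matrix.mul_add, Matrix.add_mul,
    Matrix.mul_one, Matrix.one_mul]
  congr 1
  have hj := diagT_ne_zero hg j
  ext a b
  rw [diagonal_mul, mul_diagonal, single_apply, single_apply]
  by_cases h : i = a ∧ j = b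
  · rw [if_pos h, if_pos h]
    obtain ⟨rfl, rfl⟩ := h
    unfold chiS
    field_simp
  · rw [if_neg h, if_neg h, mul_zero, zero_mul]

/-- the root elements and the diagonal torus of `SL_n` -/
noncomputable def slTorData (K : Type*) [Field K] (n : ℕ) :
    TorData (Fin n) K (SpecialLinearGroup (Fin n) K) where
  x := xS
  x_add := by
    intro i j hij t u
    unfold xS
    rw [← X_add hij, map_mul]
  x_comm := by
    intro i j k l hij hkl hil hjk t u
    unfold xS
    rw [← map_mul, ← map_mul, X_comm hij hkl hil hjk]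
  x_comm3 := by
    intro i j l hij hjl hil t u
    unfold xS
    rw [← map_commutatorElement, commutatorElement_def, X_comm3 hij hjl hil]
  T := diagT K n
  T_comm := fun a ha b hb => diagT_comm ha hb
  chi := chiS
  T_conj := fun a ha i j hij t => diagT_conj ha hij t
  chi_mul := by
    intro a ha i j l _ _ _
    have hj := diagT_ne_zero ha j
    unfold chiS
    field_simp

theorem chiS_mul {g g' : SLn} (hg : g ∈ diagT K n) (hg' : g' ∈ diagT K n) (i j : Fin n) :
    chiS (g * g') i j = chiS g i j * chiS g' i j := by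
  unfold chiS
  rw [diagT_mul_apply hg hg', diagT_mul_apply hg hg', mul_inv]
  ring

theorem mat_diag2n {i j : Fin n} (hij : i ≠ j) (c : K) (hc : c ≠ 0) :
    mat (SpecialLinearGroup.diag2n hij c hc)
      = diagonal (fun k => if k = i then c else if k = j then c⁻¹ else 1) :=
  SpecialLinearGroup.diag2n_coe hij c hc

/-- the basic torus elements -/
theorem diag2n_mem {i j : Fin n} (hij : i ≠ j) (c : K) (hc : c ≠ 0) :
    SpecialLinearGroup.diag2n hij c hc ∈ diagT K n := by
  intro a b hab
  rw [mat_diag2n]
  exact diagonal_apply_ne _ hab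

theorem chiS_diag2n {i j : Fin n} (hij : i ≠ j) (c : K) (hc : c ≠ 0) (k l : Fin n) :
    chiS (SpecialLinearGroup.diag2n hij c hc) k l
      = (if k = i then c else if k = j then c⁻¹ else 1) *
        (if l = i then c else if l = j then c⁻¹ else 1)⁻¹ := by
  unfold chiS
  rw [mat_diag2n, diagonal_apply_eq, diagonal_apply_eq]

end Cfsg.Agent.SLMult
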