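import Cfsg.Agent.Lib.Helper5.UC.Abstract
import Cfsg.Agent.Lib.Lead.MilnorSteinA

/-!
# Steinberg's argument for the central extensions of `SL_n`, abstractly (lead)

A group `Δ` with root elements `x i j t` (`i ≠ j`) satisfying Steinberg's relations of type `A`, and
a commutative subgroup `T` acting on the root subgroups by scalars.  For a central extension
`ψ : Y → Δ`, the canonical lifts `y i j t = ⁅ã, b⁆` (`ã` a lift of an element of `T` acting on
`x i j` by `χ ≠ 1`, `b` a lift of `x i j (t / (χ - 1))`) satisfy Steinberg's relations, provided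
that the lifts of commuting root elements commute and that for every pair of roots `(i, j)`,
`(j, l)` some element of `T` centralises the first root subgroup and acts non-trivially on the
second one.  The commutator formula has one term, so no information on the unipotent subgroups is
needed.
-/

set_option autoImplicit false

namespace Cfsg.Agent.SLMult

open scoped commutatorElement IsMulCommutative
open Cfsg.Agent.Lib.Helper5.UC

/-- root elements of type `A` with a torus -/
structure TorData (ι : Type*) (K : Type*) [Field K] (Δ : Type*) [Group Δ] where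
  x : ι → ι → K → Δ
  x_add : ∀ i j, i ≠ j → ∀ t u, x i j (t + u) = x i j t * x i j u
  x_comm : ∀ i j k l, i ≠ j → k ≠ l → i ≠ l → j ≠ k → ∀ t u,
    x i j t * x k l u = x k l u * x i j t
  x_comm3 : ∀ i j l, i ≠ j → j ≠ l → i ≠ l → ∀ t u, ⁅x i j t, x j l u⁆ = x i l (t * u)
  T : Subgroup Δ
  T_comm : ∀ a ∈ T, ∀ b ∈ T, a * b = b * a
  chi : Δ → ι → ι → K
  T_conj : ∀ a ∈ T, ∀ i j, i ≠ j → ∀ t, a * x i j t * a⁻¹ = x i j (chi a i j * t)
  chi_mul : ∀ a ∈ T, ∀ i j l, i ≠ j → j ≠ l → i ≠ l → chi a i l = chi a i j * chi a j l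

section

variable {ι : Type*} {K : Type*} [Field K] {Δ Y : Type*} [Group Δ] [Group Y]
  (S : TorData ι K Δ) (ψ : Y →* Δ)

/-- lifts of the elements of the root subgroups `(i, j)`, `(k, l)` commute -/
def LC (i j k l : ι) : Prop :=
  ∀ (b b' : Y) (t u : K), ψ b = S.x i j t → ψ b' = S.x k l u → b * b' = b' * b

variable {S ψ}

theorem LC.symm {i j k l : ι} (h : LC S ψ i j k l) : LC S ψ k l i j :=
  fun b b' t u hb hb' => (h b' b u t hb' hb).symm

variable (hs : Function.Surjective ψ) (hc : ∀ z : Y, ψ z = 1 → ∀ y : Y, z * y = y * z)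

include hs hc in
/-- lifts commute, if an element of the torus centralises the first root subgroup and acts
non-trivially on the second one -/
theorem lc_of_torus {i j k l : ι} (hij : i ≠ j) (hkl : k ≠ l) (hil : i ≠ l) (hjk : j ≠ k)
    (a : Δ) (ha : a ∈ S.T) (h1 : S.chi a i j = 1) (h2 : S.chi a k l ≠ 1) : LC S ψ i j k l := by
  obtain ⟨a', ha'⟩ := hs a
  apply comm0 ψ hc (S.x i j) (S.x k l) (S.x_add k l hkl) (S.x_comm i j k l hij hkl hil hjk)
    (fun u => hs _) (S.chi a k l) h2 a'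
  · intro t
    rw [ha', S.T_conj a ha i j hij, h1, one_mul]
  · intro u
    rw [ha', S.T_conj a ha k l hkl]

include hs hc in
/-- lifts commute, if the second root is the sum of two roots whose root subgroups commute with
the first one -/
theorem lc_of_dec {i j k l m : ι} (hij : i ≠ j) (hkm : k ≠ m) (hml : m ≠ l) (hkl : k ≠ l)
    (him : i ≠ m) (hjk : j ≠ k) (hil : i ≠ l) (hjm : j ≠ m) : LC S ψ i j k l := by
  intro b b' t u hb hb'
  have hcK : Cfsg.Agent.MilnorStein.CentralKer ψ := hc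
  obtain ⟨G, hG⟩ := hs (S.x k m u)
  obtain ⟨Dd, hDd⟩ := hs (S.x m l 1)
  have hGD : ψ ⁅G, Dd⁆ = S.x k l u := by
    rw [map_commutatorElement, hG, hDd, S.x_comm3 k m l hkm hml hkl, mul_one]
  have e1 : ψ ⁅b, G⁆ = 1 := by
    rw [map_commutatorElement, hb, hG, commutatorElement_eq_one_iff_commute]
    exact S.x_comm i j k m hij hkm him hjk t u
  have e2 : ψ ⁅b, Dd⁆ = 1 := by
    rw [map_commutatorElement, hb, hDd, commutatorElement_eq_one_iff_commute]
    exact S.x_comm i j m l hij hml hil hjm t 1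
  have hcm : Commute b ⁅G, Dd⁆ := Cfsg.Agent.MilnorStein.commute_comm hcK e1 e2
  have hz : ψ (⁅G, Dd⁆⁻¹ * b') = 1 := by rw [map_mul, map_inv, hGD, hb', inv_mul_cancel]
  have hzc : Commute b (⁅G, Dd⁆⁻¹ * b') := (hc _ hz b).symm
  have e : b' = ⁅G, Dd⁆ * (⁅G, Dd⁆⁻¹ * b') := by group
  rw [e]
  exact hcm.mul_right hzc

/-! ### the canonical lifts -/

variable (h1 : ∀ i j, i ≠ j → ∃ a ∈ S.T, S.chi a i j ≠ 1)

/-- the chosen torus element of the root `(i, j)` -/
noncomputable def tor (i j : ι) : Δ := by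
  classical
  exact if h : i ≠ j then (h1 i j h).choose else 1

theorem tor_mem {i j : ι} (hij : i ≠ j) : tor h1 i j ∈ S.T := by
  unfold tor
  rw [dif_pos hij]
  exact (h1 i j hij).choose_spec.1

theorem tor_chi {i j : ι} (hij : i ≠ j) : S.chi (tor h1 i j) i j ≠ 1 := by
  unfold tor
  rw [dif_pos hij]
  exact (h1 i j hij).choose_spec.2

/-- a chosen lift -/
noncomputable def lf (d : Δ) : Y := (hs d).choose

theorem map_lf (d : Δ) : ψ (lf hs d) = d := (hs d).choose_spec

/-- the canonical lift of `x i j t` -/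
noncomputable def y (i j : ι) (t : K) : Y :=
  ⁅lf hs (tor h1 i j), lf hs (S.x i j (t / (S.chi (tor h1 i j) i j - 1)))⁆

section root

variable {i j : ι} (hij : i ≠ j) (hSR : LC S ψ i j i j)

include hij in
theorem map_lf_tor_conj (t : K) :
    ψ (lf hs (tor h1 i j)) * S.x i j t * (ψ (lf hs (tor h1 i j)))⁻¹
      = S.x i j (S.chi (tor h1 i j) i j * t) := by
  rw [map_lf]
  exact S.T_conj _ (tor_mem h1 hij) i j hij t

include hc hij hSR in
/-- the canonical lift does not depend on the torus element -/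
theorem y_eq (a b : Y) (h : Δ) (hh : h ∈ S.T) (hχ1 : S.chi h i j ≠ 1) (ha : ψ a = h) (t : K)
    (hb : ψ b = S.x i j (t / (S.chi h i j - 1))) : ⁅a, b⁆ = y hs h1 i j t := by
  have hχ' : S.chi h i j - 1 ≠ 0 := sub_ne_zero.2 hχ1
  have hv : S.chi (tor h1 i j) i j - 1 ≠ 0 := sub_ne_zero.2 (tor_chi h1 hij)
  unfold y
  apply comm_tor_indep ψ hc (S.x i j) (S.x_add i j hij) hSR (fun t => hs _) a
    (lf hs (tor h1 i j)) ?_ (S.chi h i j) (S.chi (tor h1 i j) i j) ?_
    (map_lf_tor_conj hs h1 hij) b _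
    (t / ((S.chi h i j - 1) * (S.chi (tor h1 i j) i j - 1))) ?_ ?_
  · rw [ha, map_lf]
    exact S.T_comm _ hh _ (tor_mem h1 hij)
  · intro t'
    rw [ha]
    exact S.T_conj h hh i j hij t'
  · rw [hb]
    congr 1
    field_simp
  · rw [map_lf]
    congr 1
    field_simp

include hij in
theorem map_y (t : K) : ψ (y hs h1 i j t) = S.x i j t := by
  unfold y
  rw [map_comm_tor ψ (S.x i j) (S.x_add i j hij) _ _ (map_lf_tor_conj hs h1 hij) _ _
    (map_lf hs _)]
  congr 1
  have hv : S.chi (tor h1 i j) i j - 1 ≠ 0 := sub_ne_zero.2 (tor_chi h1 hij)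
  field_simp

include hc hij hSR in
theorem y_add (t u : K) : y hs h1 i j t * y hs h1 i j u = y hs h1 i j (t + u) := by
  unfold y
  rw [← comm_tor_add ψ (S.x i j) (S.x_add i j hij) hSR _ _ (map_lf_tor_conj hs h1 hij) _ _ _ _
    (map_lf hs _) (map_lf hs _)]
  apply comm_congr ψ hc rfl
  rw [map_mul, map_lf, map_lf, map_lf, ← S.x_add i j hij, add_div]

include hc hij hSR in
/-- conjugation of the canonical lift by a lift of a torus element -/
theorem y_tor (a : Y) (h : Δ) (hh : h ∈ S.T) (ha : ψ a = h) (t : K) :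
    a * y hs h1 i j t * a⁻¹ = y hs h1 i j (S.chi h i j * t) := by
  have e : a * y hs h1 i j t * a⁻¹ = ⁅a * lf hs (tor h1 i j) * a⁻¹,
      a * lf hs (S.x i j (t / (S.chi (tor h1 i j) i j - 1))) * a⁻¹⁆ := conj_comm _ _ _
  rw [e]
  apply y_eq hs hc h1 hij hSR _ _ (tor h1 i j) (tor_mem h1 hij) (tor_chi h1 hij)
  · rw [map_mul, map_mul, map_inv, ha, map_lf, S.T_comm _ hh _ (tor_mem h1 hij), mul_assoc,
      mul_inv_cancel, mul_one]
  · rw [map_mul, map_mul, map_inv, ha, map_lf, S.T_conj h hh i j hij, mul_div_assoc]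

end root

/-! ### the relations -/

variable (hLC : ∀ i j k l, i ≠ j → k ≠ l → i ≠ l → j ≠ k → LC S ψ i j k l)

include hLC in
/-- the relation (R2) -/
theorem y_comm {i j k l : ι} (hij : i ≠ j) (hkl : k ≠ l) (hil : i ≠ l) (hjk : j ≠ k) (t u : K) :
    y hs h1 i j t * y hs h1 k l u = y hs h1 k l u * y hs h1 i j t :=
  hLC i j k l hij hkl hil hjk _ _ t u (map_y hs h1 hij t) (map_y hs h1 hkl u)

include hc hLC in
/-- the relation (R3) -/
theorem y_comm3 {i j l : ι} (hij : i ≠ j) (hjl : j ≠ l) (hil : i ≠ l)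
    (a : Δ) (ha : a ∈ S.T) (ha1 : S.chi a i j = 1) (ha2 : S.chi a j l ≠ 1) (t u : K) :
    ⁅y hs h1 i j t, y hs h1 j l u⁆ = y hs h1 i l (t * u) := by
  have hSRij := hLC i j i j hij hij hij hij.symm
  have hSRjl := hLC j l j l hjl hjl hjl hjl.symm
  have hSRil := hLC i l i l hil hil hil hil.symm
  have hL1 : LC S ψ j l i l := hLC j l i l hjl hil hjl hil.symm
  -- the commutator and the defect
  have hmapc : ∀ t u, ψ ⁅y hs h1 i j t, y hs h1 j l u⁆ = S.x i l (t * u) := by
    intro t u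
    rw [map_commutatorElement, map_y hs h1 hij, map_y hs h1 hjl, S.x_comm3 i j l hij hjl hil]
  obtain ⟨f, hf⟩ : ∃ f : K → K → Y, ∀ t u, f t u =
      ⁅y hs h1 i j t, y hs h1 j l u⁆ * (y hs h1 i l (t * u))⁻¹ := ⟨_, fun _ _ => rfl⟩
  have hfker : ∀ t u, ψ (f t u) = 1 := by
    intro t u
    rw [hf, map_mul, map_inv, hmapc, map_y hs h1 hil, mul_inv_cancel]
  have hfc : ∀ t u e, f t u * e = e * f t u := fun t u e => hc _ (hfker t u) e
  have hcf : ∀ t u, ⁅y hs h1 i j t, y hs h1 j l u⁆ = f t u * y hs h1 i l (t * u) := by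
    intro t u
    rw [hf, inv_mul_cancel_right]
  -- additivity in the second variable
  have hcadd : ∀ t u u', ⁅y hs h1 i j t, y hs h1 j l (u + u')⁆
      = ⁅y hs h1 i j t, y hs h1 j l u⁆ * ⁅y hs h1 i j t, y hs h1 j l u'⁆ := by
    intro t u u'
    rw [← y_add hs hc h1 hjl hSRjl u u', comm_mul_right']
    congr 1
    have := hL1 (y hs h1 j l u) ⁅y hs h1 i j t, y hs h1 j l u'⁆ u (t * u') (map_y hs h1 hjl u)
      (hmapc t u')
    rw [this, mul_inv_cancel_right]
  have hadd2 : ∀ t u u', f t (u + u') = f t u * f t u' := by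
    intro t u u'
    have e1 : y hs h1 i l (t * (u + u')) = y hs h1 i l (t * u) * y hs h1 i l (t * u') := by
      rw [y_add hs hc h1 hil hSRil, mul_add]
    have e2 : f t (u + u') * y hs h1 i l (t * (u + u'))
        = f t u * f t u' * y hs h1 i l (t * (u + u')) := by
      rw [← hcf, hcadd, hcf, hcf, e1]
      calc f t u * y hs h1 i l (t * u) * (f t u' * y hs h1 i l (t * u'))
          = f t u * (y hs h1 i l (t * u) * f t u') * y hs h1 i l (t * u') := by group
        _ = f t u * (f t u' * y hs h1 i l (t * u)) * y hs h1 i l (t * u') := by rw [hfc t u']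
        _ = f t u * f t u' * (y hs h1 i l (t * u) * y hs h1 i l (t * u')) := by group
    exact mul_right_cancel e2
  -- invariance under the torus element
  obtain ⟨a', ha'⟩ := hs a
  have hinv : ∀ t u, f t (S.chi a j l * u) = f t u := by
    intro t u
    have e1 : a' * ⁅y hs h1 i j t, y hs h1 j l u⁆ * a'⁻¹
        = ⁅y hs h1 i j t, y hs h1 j l (S.chi a j l * u)⁆ := by
      rw [conj_comm, y_tor hs hc h1 hij hSRij a' a ha ha', y_tor hs hc h1 hjl hSRjl a' a ha ha',
        ha1, one_mul]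
    have e2 : a' * y hs h1 i l (t * u) * a'⁻¹ = y hs h1 i l (t * (S.chi a j l * u)) := by
      rw [y_tor hs hc h1 hil hSRil a' a ha ha', S.chi_mul a ha i j l hij hjl hil, ha1, one_mul]
      congr 1
      ring
    have e3 : a' * f t u * a'⁻¹ = f t (S.chi a j l * u) := by
      rw [hf t u, hf t (S.chi a j l * u), ← e1, ← e2]
      group
    rw [← e3, ← hfc t u a', mul_inv_cancel_right]
  -- the defect vanishes
  let φ : K → K → Additive (Subgroup.center Y) := fun t u =>
    Additive.ofMul ⟨f t u, Subgroup.mem_center_iff.2 (fun e => (hfc t u e).symm)⟩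
  have hφ : ∀ t u, φ t u = 0 := by
    apply biadd_zero_of_scale φ _ (S.chi a j l) ha2
    · intro t u
      show Additive.ofMul _ = Additive.ofMul _
      congr 1
      apply Subtype.ext
      exact hinv t u
    · intro t u u'
      show Additive.ofMul _ = Additive.ofMul (_ * _)
      congr 1
      apply Subtype.ext
      exact hadd2 t u u'
  have h2 : (⟨f t u, Subgroup.mem_center_iff.2 (fun e => (hfc t u e).symm)⟩ : Subgroup.center Y)
      = 1 := hφ t u
  have h3 : f t u = 1 := congrArg Subtype.val h2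
  rw [hcf t u, h3, one_mul]

include hs hc in
/-- the canonical lifts satisfy Steinberg's relations -/
theorem exists_lifts (h1 : ∀ i j, i ≠ j → ∃ a ∈ S.T, S.chi a i j ≠ 1)
    (hLC : ∀ i j k l, i ≠ j → k ≠ l → i ≠ l → j ≠ k → LC S ψ i j k l)
    (h3 : ∀ i j l, i ≠ j → j ≠ l → i ≠ l → ∃ a ∈ S.T, S.chi a i j = 1 ∧ S.chi a j l ≠ 1) :
    ∃ y : ι → ι → K → Y, (∀ i j, i ≠ j → ∀ t, ψ (y i j t) = S.x i j t) ∧
      (∀ i j, i ≠ j → ∀ t u, y i j t * y i j u = y i j (t + u)) ∧
      (∀ i j k l, i ≠ j → k ≠ l → i ≠ l → j ≠ k → ∀ t u,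
        y i j t * y k l u = y k l u * y i j t) ∧
      (∀ i j l, i ≠ j → j ≠ l → i ≠ l → ∀ t u, ⁅y i j t, y j l u⁆ = y i l (t * u)) := by
  refine ⟨y hs h1, fun i j hij t => map_y hs h1 hij t, fun i j hij t u => ?_,
    fun i j k l hij hkl hil hjk t u => y_comm hs h1 hLC hij hkl hil hjk t u,
    fun i j l hij hjl hil t u => ?_⟩
  · exact y_add hs hc h1 hij (hLC i j i j hij hij hij hij.symm) t u
  · obtain ⟨a, ha, ha1, ha2⟩ := h3 i j l hij hjl hil
    exact y_comm3 hs hc h1 hLC hij hjl hil a ha ha1 ha2 t u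

end

end Cfsg.Agent.SLMult
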