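import Cfsg.Agent.Lib.Helper5.MS.StemUniv
import Cfsg.Agent.Lib.Helper5.UC.Perfect

/-!
# The Schur multiplier from a finite perfect central extension all of whose finite central
extensions split (lead)

The lemma of `Lib/Helper5/MS/StemUniv`, with the splitting asked for finite central extensions only;
and the splitting of the finite central extensions of a perfect group whose finite stem extensions
are trivial.
-/

set_option autoImplicit false

namespace Cfsg.Agent.SLMult

open scoped commutatorElement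

universe u v

/-- the Schur multiplier of `G` is the kernel of a finite, perfect central extension `σ : C → G`
all of whose finite central extensions split -/
theorem hasSchurMultiplier_of_universal_fin {G : Type u} [Group G] {C : Type u} [Group C]
    [Finite C] (σ : C →* G) (hσ : Function.Surjective σ) (hker : σ.ker ≤ Subgroup.center C)
    (hperf : commutator C = ⊤)
    (hsplit : ∀ (Y : Type u) [Group Y] [Finite Y] (ψ : Y →* C), Function.Surjective ψ →
        (∀ z : Y, ψ z = 1 → ∀ y : Y, z * y = y * z) → ∃ s : C →* Y, ψ.comp s = MonoidHom.id C)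
    {A : Type v} [CommGroup A] (e : σ.ker ≃* A) : Cfsg.HasSchurMultiplier G A := by
  refine ⟨⟨C, inferInstance, inferInstance, σ, ⟨hσ, hker, by rw [hperf]; exact le_top⟩, ⟨e⟩⟩, ?_⟩
  intro Γ _ _ σ' hσ'
  obtain ⟨hsurj', hc', hd'⟩ := hσ'
  -- the pullback
  let P : Subgroup (C × Γ) :=
    (σ.comp (MonoidHom.fst C Γ)).eqLocus (σ'.comp (MonoidHom.snd C Γ))
  have hP : ∀ p : ↥P, σ p.1.1 = σ' p.1.2 := fun p => p.2
  let ψ : ↥P →* C := (MonoidHom.fst C Γ).comp P.subtype
  have hψ : ∀ p : ↥P, ψ p = p.1.1 := fun p => rfl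
  have hψsurj : Function.Surjective ψ := by
    intro c
    obtain ⟨g, hg⟩ := hsurj' (σ c)
    exact ⟨⟨(c, g), hg.symm⟩, rfl⟩
  have hψc : ∀ z : ↥P, ψ z = 1 → ∀ y : ↥P, z * y = y * z := by
    intro z hz y
    rw [hψ] at hz
    have h1 : σ' z.1.2 = 1 := by rw [← hP z, hz, map_one]
    have h2 := Subgroup.mem_center_iff.1 (hc' (MonoidHom.mem_ker.2 h1)) y.1.2
    apply Subtype.ext
    apply Prod.ext
    · show z.1.1 * y.1.1 = y.1.1 * z.1.1
      rw [hz, one_mul, mul_one]
    · show z.1.2 * y.1.2 = y.1.2 * z.1.2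
      exact h2.symm
  obtain ⟨s, hs⟩ := hsplit ↥P ψ hψsurj hψc
  let τ : C →* Γ := (MonoidHom.snd C Γ).comp (P.subtype.comp s)
  have hτ : ∀ c : C, σ' (τ c) = σ c := by
    intro c
    have h1 : (s c).1.1 = c := DFunLike.congr_fun hs c
    show σ' (s c).1.2 = σ c
    rw [← hP (s c), h1]
  have hcen : Cfsg.Agent.MilnorStein.CentralKer σ' := by
    intro z hz y
    exact (Subgroup.mem_center_iff.1 (hc' (MonoidHom.mem_ker.2 hz)) y).symm
  -- the commutator subgroup of `Γ` lies in the range of `τ`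
  have hcomm : commutator Γ ≤ τ.range := by
    rw [commutator_def, Subgroup.commutator_le]
    intro g₁ _ g₂ _
    obtain ⟨c₁, h1⟩ := hσ (σ' g₁)
    obtain ⟨c₂, h2⟩ := hσ (σ' g₂)
    have e1 : σ' g₁ = σ' (τ c₁) := by rw [hτ, h1]
    have e2 : σ' g₂ = σ' (τ c₂) := by rw [hτ, h2]
    rw [Cfsg.Agent.MilnorStein.comm_congr hcen e1 e2, ← map_commutatorElement]
    exact ⟨_, rfl⟩
  -- the kernel of `σ'` is the image of the kernel of `σ`
  have hkerτ : ∀ k : Γ, σ' k = 1 → ∃ c : C, σ c = 1 ∧ τ c = k := by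
    intro k hk
    obtain ⟨c, hc⟩ := hcomm (hd' (MonoidHom.mem_ker.2 hk))
    refine ⟨c, ?_, hc⟩
    rw [← hτ, hc, hk]
  let π₀ : ↥σ.ker →* ↥σ'.ker :=
    (τ.comp σ.ker.subtype).codRestrict σ'.ker (fun c => by
      rw [MonoidHom.mem_ker]
      show σ' (τ c.1) = 1
      rw [hτ]
      exact c.2)
  have hπ₀ : Function.Surjective π₀ := by
    intro k
    obtain ⟨c, hc1, hc2⟩ := hkerτ k.1 k.2
    refine ⟨⟨c, MonoidHom.mem_ker.2 hc1⟩, ?_⟩
    apply Subtype.ext
    exact hc2
  exact ⟨π₀.comp e.symm.toMonoidHom, hπ₀.comp e.symm.surjective⟩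

/-- the finite central extensions of a perfect group whose finite stem extensions are trivial
split -/
theorem splits_of_stem_trivial {C : Type u} [Group C] (hperf : commutator C = ⊤)
    (hstem : ∀ (Γ : Type u) [Group Γ] [Finite Γ] (σ : Γ →* C), Cfsg.IsStemExtension σ → σ.ker = ⊥)
    (Y : Type u) [Group Y] [Finite Y] (ψ : Y →* C) (hψ : Function.Surjective ψ)
    (hc : ∀ z : Y, ψ z = 1 → ∀ y : Y, z * y = y * z) :
    ∃ s : C →* Y, ψ.comp s = MonoidHom.id C := by
  have hperfY : commutator ↥(commutator Y) = ⊤ :=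
    Cfsg.Agent.Lib.Helper5.UC.commutator_perfect hperf ψ hψ hc
  let ψ' : ↥(commutator Y) →* C := ψ.comp (commutator Y).subtype
  have hsurj' : Function.Surjective ψ' := by
    intro c
    obtain ⟨p, hp, e⟩ := Cfsg.Agent.Lib.Helper5.UC.commutator_surjective hperf ψ hψ c
    exact ⟨⟨p, hp⟩, e⟩
  have hstem' : Cfsg.IsStemExtension ψ' := by
    refine ⟨hsurj', ?_, by rw [hperfY]; exact le_top⟩
    intro z hz
    rw [Subgroup.mem_center_iff]
    intro y
    apply Subtype.ext
    exact (hc z.1 (MonoidHom.mem_ker.1 hz) y.1).symm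
  have hker := hstem ↥(commutator Y) ψ' hstem'
  have hinj : Function.Injective ψ' := (MonoidHom.ker_eq_bot_iff ψ').1 hker
  let e : ↥(commutator Y) ≃* C := MulEquiv.ofBijective ψ' ⟨hinj, hsurj'⟩
  refine ⟨(commutator Y).subtype.comp e.symm.toMonoidHom, ?_⟩
  ext c
  show ψ' (e.symm c) = c
  exact e.apply_symm_apply c

end Cfsg.Agent.SLMult
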